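import Mathlib.Algebra.Module.FinitePresentation
import Mathlib.Algebra.Category.ModuleCat.Basic
import Mathlib.CategoryTheory.Preadditive.Biproducts
import Mathlib.CategoryTheory.Limits.Preserves.Finite
import Mathlib.CategoryTheory.ObjectProperty.FullSubcategory
import Mathlib.CategoryTheory.Limits.Shapes.Kernels

/-!
# The right exact extension of an `A`-action on an object to finitely presented modules
-/

set_option autoImplicit false
universe u v' u'

open CategoryTheory CategoryTheory.Limits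

namespace FPFunLib

variable {A : Type u} [CommRing A] {B : Type u'} [Category.{v'} B] [Preadditive B] {K : B} (κ : A →+* End K)

/-- Morphisms out of `K`, as an `A`-module through `κ`. -/
@[nolint unusedArguments]
def HK (_κ : A →+* End K) (Z : B) : Type v' := K ⟶ Z

instance (Z : B) : AddCommGroup (HK κ Z) := inferInstanceAs (AddCommGroup (K ⟶ Z))

/-- The underlying morphism. -/
abbrev HK.hom {κ : A →+* End K} {Z : B} (g : HK κ Z) : K ⟶ Z := g

/-- A morphism out of `K` as an element of `HK`. -/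
abbrev HK.mk {Z : B} (g : K ⟶ Z) : HK κ Z := g

theorem kappa_mul (a b : A) : (κ (a * b) : K ⟶ K) = κ a ≫ κ b := by
  rw [mul_comm, map_mul]; rfl

noncomputable instance (Z : B) : Module A (HK κ Z) where
  smul a g := (κ a : K ⟶ K) ≫ g.hom
  one_smul g := show (κ 1 : K ⟶ K) ≫ g.hom = g.hom by rw [map_one]; exact Category.id_comp _
  mul_smul a b g := show (κ (a * b) : K ⟶ K) ≫ g.hom = κ a ≫ κ b ≫ g.hom by rw [kappa_mul, Category.assoc]
  smul_zero a := show (κ a : K ⟶ K) ≫ (0 : K ⟶ Z) = 0 from comp_zero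
  smul_add a g h := show (κ a : K ⟶ K) ≫ (g.hom + h.hom) = κ a ≫ g.hom + κ a ≫ h.hom from Preadditive.comp_add _ _ _ _ _ _
  add_smul a b g := show (κ (a + b) : K ⟶ K) ≫ g.hom = κ a ≫ g.hom + κ b ≫ g.hom by
    rw [map_add]; exact Preadditive.add_comp _ _ _ _ _ _
  zero_smul g := show (κ 0 : K ⟶ K) ≫ g.hom = 0 by rw [map_zero]; exact zero_comp

/-- Postcomposition. -/
def post {Z Z' : B} (g : Z ⟶ Z') : HK κ Z →ₗ[A] HK κ Z' where
  toFun h := (h.hom ≫ g : K ⟶ Z')
  map_add' h h' := Preadditive.add_comp _ _ _ h.hom h'.hom g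
  map_smul' a h := Category.assoc (κ a : K ⟶ K) h.hom g

/-- A corepresenting object of `Z ↦ Hom_A(M, Hom(K, Z))`. -/
structure Rep (M : Type u) [AddCommGroup M] [Module A M] where
  obj : B
  uni : M →ₗ[A] HK κ obj
  desc : ∀ {Z : B}, (M →ₗ[A] HK κ Z) → (obj ⟶ Z)
  fac : ∀ {Z : B} (φ : M →ₗ[A] HK κ Z) (m : M), (uni m).hom ≫ desc φ = (φ m).hom
  hom_ext : ∀ {Z : B} (g h : obj ⟶ Z), (∀ m, (uni m).hom ≫ g = (uni m).hom ≫ h) → g = h

theorem exists_rep [HasFiniteBiproducts B] [HasCokernels B] (M : Type u) [AddCommGroup M] [Module A M]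
    [Module.FinitePresentation A M] : Nonempty (Rep κ M) := by
  classical
  obtain ⟨n, m, f, g, hf, hfg⟩ := Module.FinitePresentation.exists_fin' A M
  let en : Fin n → (Fin n → A) := fun i => Pi.single i 1
  let em : Fin m → (Fin m → A) := fun j => Pi.single j 1
  have hexp : ∀ {k : ℕ} (c : Fin k → A), c = ∑ i, c i • (Pi.single i (1 : A) : Fin k → A) := by
    intro k c
    funext i
    simp [Finset.sum_apply, Pi.single_apply]
  let P : B := ⨁ (fun _ : Fin n => K)
  let ρ : (⨁ fun _ : Fin m => K) ⟶ P :=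
    biproduct.desc fun j => ∑ i, (κ (g (em j) i) : K ⟶ K) ≫ biproduct.ι (fun _ : Fin n => K) i
  let Q : B := cokernel ρ
  let u0 : (Fin n → A) →ₗ[A] HK κ Q := Fintype.linearCombination A
    (fun i => (HK.mk κ (biproduct.ι (fun _ : Fin n => K) i ≫ cokernel.π ρ)))
  have hu0 : ∀ c, u0 c = ∑ i, c i • (HK.mk κ (biproduct.ι (fun _ : Fin n => K) i ≫ cokernel.π ρ)) := fun c =>
    Fintype.linearCombination_apply A _ c
  have hcoe : ∀ {Z : B} (s : Finset (Fin n)) (φ : Fin n → HK κ Z),
      (∑ i ∈ s, φ i).hom = ∑ i ∈ s, (φ i).hom := fun s φ => rfl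
  have hkill : LinearMap.ker f ≤ LinearMap.ker u0 := by
    rw [hfg.linearMap_ker_eq]
    rintro _ ⟨c, rfl⟩
    rw [hexp c, LinearMap.mem_ker, map_sum, map_sum]
    refine Finset.sum_eq_zero fun j _ => ?_
    rw [map_smul, map_smul]
    convert smul_zero (c j)
    show (u0 (g (em j))).hom = 0
    rw [hu0, hcoe]
    have : biproduct.ι (fun _ : Fin m => K) j ≫ ρ ≫ cokernel.π ρ = 0 := by rw [cokernel.condition, comp_zero]
    rw [← Category.assoc, biproduct.ι_desc, Preadditive.sum_comp] at this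
    refine Eq.trans (Finset.sum_congr rfl fun i _ => ?_) this
    exact (Category.assoc _ _ _).symm
  let e := f.quotKerEquivOfSurjective hf
  let uni : M →ₗ[A] HK κ Q := (LinearMap.ker f).liftQ u0 hkill ∘ₗ e.symm.toLinearMap
  have huni : ∀ c, uni (f c) = u0 c := by
    intro c
    show (LinearMap.ker f).liftQ u0 hkill (e.symm (f c)) = u0 c
    rw [show e.symm (f c) = Submodule.Quotient.mk c from
      (LinearEquiv.symm_apply_eq e).2 rfl, Submodule.liftQ_apply]
  have hsingle : ∀ i, (uni (f (en i))).hom = biproduct.ι (fun _ : Fin n => K) i ≫ cokernel.π ρ := by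
    intro i
    rw [huni, hu0, Finset.sum_eq_single i]
    · simp only [en, Pi.single_eq_same, one_smul]
    · intro b _ hb
      simp only [en, Pi.single_eq_of_ne hb, zero_smul]
    · intro h; exact absurd (Finset.mem_univ i) h
  refine ⟨⟨Q, uni, fun {Z} φ => cokernel.desc ρ (biproduct.desc fun i => (φ (f (en i))).hom) ?_, ?_, ?_⟩⟩
  · apply biproduct.hom_ext'
    intro j
    rw [comp_zero, ← Category.assoc, biproduct.ι_desc, Preadditive.sum_comp]
    have h1 : φ (f (g (em j))) = 0 := by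
      rw [show f (g (em j)) = 0 from hfg.apply_apply_eq_zero (em j), map_zero]
    rw [hexp (g (em j)), map_sum, map_sum] at h1
    refine Eq.trans ?_ h1
    refine Finset.sum_congr rfl fun i _ => ?_
    rw [map_smul, map_smul, Category.assoc, biproduct.ι_desc]
    rfl
  · intro Z φ x
    obtain ⟨c, rfl⟩ := hf x
    rw [hexp c, map_sum, map_sum, map_sum, hcoe, hcoe, Preadditive.sum_comp]
    refine Finset.sum_congr rfl fun i _ => ?_
    simp only [map_smul]
    show ((κ (c i) : K ⟶ K) ≫ (uni (f (en i))).hom) ≫ _ = (κ (c i) : K ⟶ K) ≫ (φ (f (en i))).hom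
    rw [hsingle, Category.assoc, Category.assoc, cokernel.π_desc, biproduct.ι_desc]
  · intro Z g h hgh
    apply coequalizer.hom_ext
    apply biproduct.hom_ext'
    intro i
    have := hgh (f (en i))
    rw [hsingle, Category.assoc, Category.assoc] at this
    exact this

variable [HasFiniteBiproducts B] [HasCokernels B]

/-- Finitely presented modules. -/
abbrev FP (A : Type u) [CommRing A] :=
  ObjectProperty.FullSubcategory (fun M : ModuleCat.{u} A => Module.FinitePresentation A M)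

/-- A chosen corepresenting object. -/
noncomputable def rep (M : FP A) : Rep κ M.obj :=
  haveI : Module.FinitePresentation A M.obj := M.property
  (exists_rep κ M.obj).some

/-- The extension. -/
noncomputable def ext : FP A ⥤ B where
  obj M := (rep κ M).obj
  map {M N} f := (rep κ M).desc ((rep κ N).uni ∘ₗ f.hom.hom)
  map_id M := (rep κ M).hom_ext _ _ fun m => by
    rw [(rep κ M).fac, Category.comp_id]; rfl
  map_comp {M N P} f g := (rep κ M).hom_ext _ _ fun m => by
    rw [(rep κ M).fac, ← Category.assoc, (rep κ M).fac]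
    exact ((rep κ N).fac ((rep κ P).uni ∘ₗ g.hom.hom) (f.hom.hom m)).symm

theorem uni_map {M N : FP A} (f : M ⟶ N) (m : M.obj) :
    ((rep κ M).uni m).hom ≫ (ext κ).map f = ((rep κ N).uni (f.hom.hom m)).hom :=
  (rep κ M).fac _ m

theorem lsum_single_apply {J : Type} [Fintype J] [DecidableEq J] {M : J → Type u} [∀ j, AddCommGroup (M j)]
    [∀ j, Module A (M j)] {N : Type*} [AddCommGroup N] [Module A N] (f : ∀ j, M j →ₗ[A] N) (j : J) (m : M j) :
    LinearMap.lsum A M A f (LinearMap.single A M j m) = f j m := by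
  rw [LinearMap.lsum_apply, LinearMap.sum_apply, Finset.sum_eq_single j]
  · simp
  · intro b _ hb; simp [Pi.single_eq_of_ne hb]
  · intro h; exact absurd (Finset.mem_univ j) h

theorem preservesFiniteColimits : PreservesFiniteColimits (ext κ) := by
  refine ⟨fun J _ _ => ⟨fun {D} => ⟨fun {c} hc => ?_⟩⟩⟩
  classical
  haveI : ∀ j, Module.FinitePresentation A (D.obj j).obj := fun j => (D.obj j).property
  let R : Submodule A ((j : J) → (D.obj j).obj) := ⨆ a : Σ j k : J, (j ⟶ k),
    LinearMap.range (LinearMap.single A (fun j => ((D.obj j).obj : Type u)) a.2.1 ∘ₗ (D.map a.2.2).hom.hom -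
      LinearMap.single A (fun j => ((D.obj j).obj : Type u)) a.1)
  haveI : Module.FinitePresentation A (((j : J) → (D.obj j).obj) ⧸ R) :=
    Module.finitePresentation_of_surjective R.mkQ R.mkQ_surjective (by
      rw [Submodule.ker_mkQ]
      refine Submodule.fg_iSup _ fun a => ?_
      rw [LinearMap.range_eq_map]
      exact Module.Finite.fg_top.map _)
  have hrel : ∀ {j k : J} (a : j ⟶ k) (m : (D.obj j).obj),
      R.mkQ (LinearMap.single A (fun j => ((D.obj j).obj : Type u)) k ((D.map a).hom.hom m)) =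
        R.mkQ (LinearMap.single A (fun j => ((D.obj j).obj : Type u)) j m) := fun {j k} a m =>
    (Submodule.Quotient.eq R).2 (Submodule.mem_iSup_of_mem ⟨j, k, a⟩ ⟨m, rfl⟩)
  let q : FP A := ⟨ModuleCat.of A (((j : J) → (D.obj j).obj) ⧸ R), inferInstance⟩
  let sq : Cocone D := Cocone.mk q
    { app := fun j => ObjectProperty.homMk (ModuleCat.ofHom (R.mkQ ∘ₗ LinearMap.single A (fun j => ((D.obj j).obj : Type u)) j))
      naturality := fun j k a => by
        ext m
        exact hrel a m }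
  let cι : ∀ j, (D.obj j).obj →ₗ[A] c.pt.obj := fun j => (c.ι.app j).hom.hom
  let v : q.obj →ₗ[A] c.pt.obj := R.liftQ (LinearMap.lsum A (fun j => ((D.obj j).obj : Type u)) A cι) (by
    refine iSup_le ?_
    rintro ⟨j, k, a⟩ _ ⟨m, rfl⟩
    rw [LinearMap.mem_ker]
    simp only [LinearMap.sub_apply, LinearMap.comp_apply, map_sub, lsum_single_apply]
    rw [sub_eq_zero]
    exact congrArg (fun h : D.obj j ⟶ c.pt => h.hom.hom m) (c.w a))
  have hv : ∀ x : c.pt.obj, v ((hc.desc sq).hom.hom x) = x := by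
    have : hc.desc sq ≫ ObjectProperty.homMk (ModuleCat.ofHom v) = 𝟙 c.pt := hc.hom_ext fun j => by
      rw [Category.comp_id, hc.fac_assoc sq j]
      ext m
      show v (R.mkQ (LinearMap.single A (fun j => ((D.obj j).obj : Type u)) j m)) = (c.ι.app j).hom.hom m
      exact (Submodule.liftQ_apply _ _ _).trans (lsum_single_apply cι j m)
    exact fun x => congrArg (fun h : c.pt ⟶ c.pt => h.hom.hom x) this
  have huniq : ∀ {Z : B} (φ φ' : c.pt.obj →ₗ[A] HK κ Z),
      (∀ j m, φ ((c.ι.app j).hom.hom m) = φ' ((c.ι.app j).hom.hom m)) → φ = φ' := by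
    intro Z φ φ' h
    apply LinearMap.ext
    intro x
    rw [← hv x]
    suffices φ ∘ₗ v = φ' ∘ₗ v from LinearMap.congr_fun this _
    apply Submodule.linearMap_qext
    apply LinearMap.pi_ext
    intro j m
    show φ (v (R.mkQ _)) = φ' (v (R.mkQ _))
    rw [show v (R.mkQ (Pi.single j m)) = (c.ι.app j).hom.hom m from
      (Submodule.liftQ_apply _ _ _).trans (lsum_single_apply cι j m)]
    exact h j m
  have hex : ∀ (s : Cocone (D ⋙ ext κ)), ∃ φ : c.pt.obj →ₗ[A] HK κ s.pt,
      ∀ j m, (φ ((c.ι.app j).hom.hom m)).hom = ((rep κ (D.obj j)).uni m).hom ≫ s.ι.app j := by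
    intro s
    let φ0 : ∀ j, (D.obj j).obj →ₗ[A] HK κ s.pt := fun j => post κ (s.ι.app j) ∘ₗ (rep κ (D.obj j)).uni
    let φq : q.obj →ₗ[A] HK κ s.pt := R.liftQ (LinearMap.lsum A (fun j => ((D.obj j).obj : Type u)) A φ0) (by
      refine iSup_le ?_
      rintro ⟨j, k, a⟩ _ ⟨m, rfl⟩
      rw [LinearMap.mem_ker]
      simp only [LinearMap.sub_apply, LinearMap.comp_apply, map_sub, lsum_single_apply]
      rw [sub_eq_zero]
      show ((rep κ (D.obj k)).uni _).hom ≫ s.ι.app k = ((rep κ (D.obj j)).uni m).hom ≫ s.ι.app j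
      rw [← uni_map κ (D.map a) m]
      erw [Category.assoc]
      exact congrArg _ (s.w a))
    refine ⟨φq ∘ₗ (hc.desc sq).hom.hom, fun j m => ?_⟩
    show (φq ((hc.desc sq).hom.hom ((c.ι.app j).hom.hom m))).hom = _
    rw [show (hc.desc sq).hom.hom ((c.ι.app j).hom.hom m) = (sq.ι.app j).hom.hom m from
      congrArg (fun h : D.obj j ⟶ q => h.hom.hom m) (hc.fac sq j)]
    show (φq (R.mkQ (LinearMap.single A (fun j => ((D.obj j).obj : Type u)) j m))).hom = _
    exact congrArg HK.hom ((Submodule.liftQ_apply _ _ _).trans (lsum_single_apply φ0 j m))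
  choose φ hφ using hex
  refine ⟨{ desc := fun s => (rep κ c.pt).desc (φ s), fac := fun s j => ?_, uniq := fun s g hg => ?_ }⟩
  · refine (rep κ (D.obj j)).hom_ext _ _ fun m => ?_
    show ((rep κ (D.obj j)).uni m).hom ≫ (ext κ).map (c.ι.app j) ≫ (rep κ c.pt).desc (φ s) = _
    erw [← Category.assoc, uni_map, (rep κ c.pt).fac]
    exact hφ s j m
  · refine (rep κ c.pt).hom_ext _ _ fun x => ?_
    rw [(rep κ c.pt).fac]
    have : post κ g ∘ₗ (rep κ c.pt).uni = φ s := huniq _ _ fun j m => by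
      show ((rep κ c.pt).uni _).hom ≫ g = (φ s _).hom
      rw [hφ]
      erw [← uni_map κ (c.ι.app j) m, Category.assoc]
      exact congrArg _ (hg j)
    exact LinearMap.congr_fun this x

/-- The value on `A` itself. -/
theorem ext_self (hfp : Module.FinitePresentation A (ModuleCat.of A A)) :
    ∃ e : (ext κ).obj ⟨ModuleCat.of A A, hfp⟩ ≅ K, ∀ a : A,
      (ext κ).map (ObjectProperty.homMk (ModuleCat.ofHom (LinearMap.lsmul A A a)) :
        (⟨ModuleCat.of A A, hfp⟩ : FP A) ⟶ ⟨ModuleCat.of A A, hfp⟩) ≫ e.hom = e.hom ≫ κ a := by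
  let S : FP A := ⟨ModuleCat.of A A, hfp⟩
  let φ : A →ₗ[A] HK κ K := LinearMap.toSpanSingleton A (HK κ K) (𝟙 K : K ⟶ K)
  have hφ : ∀ a : A, (φ a).hom = κ a := fun a => show (κ a : K ⟶ K) ≫ 𝟙 K = κ a from Category.comp_id _
  let ι : K ⟶ (rep κ S).obj := ((rep κ S).uni (1 : A)).hom
  have huni : ∀ a : A, ((rep κ S).uni a).hom = κ a ≫ ι := fun a => by
    conv_lhs => rw [show (a : A) = a • (1 : A) from (mul_one a).symm]
    exact congrArg HK.hom ((rep κ S).uni.map_smul a (1 : A))
  have h1 : (rep κ S).desc φ ≫ ι = 𝟙 _ := (rep κ S).hom_ext _ _ fun a => by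
    rw [← Category.assoc, (rep κ S).fac, hφ, Category.comp_id, huni]
  have h2 : ι ≫ (rep κ S).desc φ = 𝟙 K := by
    rw [(rep κ S).fac, hφ, map_one]; rfl
  refine ⟨⟨(rep κ S).desc φ, ι, h1, h2⟩, fun a => ?_⟩
  refine (rep κ S).hom_ext _ _ fun x => ?_
  show ((rep κ S).uni x).hom ≫ (ext κ).map _ ≫ (rep κ S).desc φ = _
  rw [← Category.assoc, uni_map]
  erw [(rep κ S).fac]
  show _ = ((rep κ S).uni x).hom ≫ (rep κ S).desc φ ≫ (κ a : K ⟶ K)
  erw [← Category.assoc, (rep κ S).fac]
  rw [hφ, hφ]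
  exact kappa_mul κ x a |> fun h => (congrArg (fun z => (κ z : K ⟶ K)) (mul_comm a x)).trans h

end FPFunLib
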