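import Mathlib.Algebra.Module.FinitePresentation
import Mathlib.Algebra.Category.ModuleCat.Basic
import Mathlib.CategoryTheory.ObjectProperty.FullSubcategory
import Mathlib.CategoryTheory.Preadditive.AdditiveFunctor
import Mathlib.CategoryTheory.Limits.Preserves.Shapes.Kernels
import Mathlib.CategoryTheory.Limits.Preserves.Shapes.Biproducts
import Mathlib.CategoryTheory.Limits.Preserves.Finite
import Mathlib.CategoryTheory.Preadditive.Biproducts

/-!
# Natural transformations of right exact functors on finitely presented modules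
-/

set_option autoImplicit false
universe u v' u'

open CategoryTheory CategoryTheory.Limits

namespace FPHomLib

variable {A : Type u} [CommRing A]

/-- Finitely presented modules. -/
abbrev FP (A : Type u) [CommRing A] :=
  ObjectProperty.FullSubcategory (fun M : ModuleCat.{u} A => Module.FinitePresentation A M)

/-- A morphism of finitely presented modules. -/
abbrev mk {M N : FP A} (f : M.obj →ₗ[A] N.obj) : M ⟶ N := ObjectProperty.homMk (ModuleCat.ofHom f)

theorem ext' {M N : FP A} {f g : M ⟶ N} (h : ∀ x, f.hom.hom x = g.hom.hom x) : f = g :=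
  InducedCategory.hom_ext (ModuleCat.hom_ext (LinearMap.ext h))

noncomputable instance : Preadditive (FP A) := inferInstance

theorem hasBinaryBiproducts : HasBinaryBiproducts (FP A) := ⟨fun M N => by
  haveI : Module.FinitePresentation A M.obj := M.property
  haveI : Module.FinitePresentation A N.obj := N.property
  let P : FP A := ⟨ModuleCat.of A (M.obj × N.obj), inferInstance⟩
  let b : BinaryBicone M N :=
    { pt := P
      fst := mk (LinearMap.fst A M.obj N.obj)
      snd := mk (LinearMap.snd A M.obj N.obj)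
      inl := mk (LinearMap.inl A M.obj N.obj)
      inr := mk (LinearMap.inr A M.obj N.obj)
      inl_fst := ext' fun x => rfl
      inl_snd := ext' fun x => rfl
      inr_fst := ext' fun x => rfl
      inr_snd := ext' fun x => rfl }
  exact hasBinaryBiproduct_of_total b (ext' fun x => by
    show ((LinearMap.inl A M.obj N.obj) x.1 + (LinearMap.inr A M.obj N.obj) x.2 : M.obj × N.obj) = x
    simp)⟩

variable {B : Type u'} [Category.{v'} B] [Preadditive B] [HasFiniteBiproducts B]

theorem additive (F : FP A ⥤ B) [PreservesFiniteColimits F] : F.Additive := by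
  haveI := hasBinaryBiproducts (A := A)
  haveI : F.PreservesZeroMorphisms := by
    let Z : FP A := ⟨ModuleCat.of A PUnit.{u + 1}, inferInstance⟩
    have hZ : IsZero Z := by
      rw [IsZero.iff_id_eq_zero]
      exact ext' fun x => Subsingleton.elim (α := PUnit.{u + 1}) _ _
    haveI : HasZeroObject B := hasZeroObject_of_hasFiniteBiproducts B
    haveI : HasZeroObject (FP A) := ⟨⟨Z, hZ⟩⟩
    haveI : PreservesColimit (Functor.empty.{0} (FP A)) F := inferInstance
    have hFZ : IsZero (F.obj Z) := by
      have hi : IsInitial (F.obj Z) := (IsInitial.ofUnique Z (h := fun Y => ⟨⟨0⟩, fun f => hZ.eq_of_src f 0⟩)).isInitialObj F Z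
      exact (isZero_zero B).of_iso (hi.uniqueUpToIso (HasZeroObject.zeroIsInitial (C := B)))
    exact F.preservesZeroMorphisms_of_map_zero_object ((F.mapIso hZ.isoZero.symm).trans hFZ.isoZero)
  haveI : PreservesBinaryBiproducts F := preservesBinaryBiproducts_of_preservesBinaryCoproducts F
  exact Functor.additive_of_preservesBinaryBiproducts F

variable [HasCokernels B] (F F' : FP A ⥤ B) [PreservesFiniteColimits F] [PreservesFiniteColimits F']
  (hA : Module.FinitePresentation A (ModuleCat.of A A))

/-- `A` as an object. -/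
abbrev one : FP A := ⟨ModuleCat.of A A, hA⟩

/-- The morphism `A ⟶ M` of an element. -/
abbrev elt {M : FP A} (m : M.obj) : one hA ⟶ M := mk (LinearMap.toSpanSingleton A M.obj m)

theorem elt_comp {M N : FP A} (m : M.obj) (f : M ⟶ N) : elt hA m ≫ f = elt hA (f.hom.hom m) :=
  ext' fun x => by
    show f.hom.hom ((x : A) • m) = (x : A) • f.hom.hom m
    rw [map_smul]

omit [HasCokernels B] in
/-- The universal property of `F M`: morphisms out of it are linear families indexed by `M`. -/
theorem exists_unique_hom {M : FP A} {Z : B} (h : M.obj → (F.obj (one hA) ⟶ Z))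
    (hadd : ∀ m m', h (m + m') = h m + h m')
    (hsmul : ∀ (a : A) m, h (a • m) = F.map (mk (LinearMap.lsmul A A a)) ≫ h m) :
    ∃! g : F.obj M ⟶ Z, ∀ m, F.map (elt hA m) ≫ g = h m := by
  classical
  haveI := additive F
  haveI : Module.FinitePresentation A M.obj := M.property
  obtain ⟨n, m, f, g, hf, hfg⟩ := Module.FinitePresentation.exists_fin' A M.obj
  let P : ℕ → FP A := fun k => ⟨ModuleCat.of A (Fin k → A), inferInstance⟩
  let pn : P n ⟶ M := mk f
  let q : P m ⟶ P n := mk g
  have hw : q ≫ pn = 0 := ext' fun x => hfg.apply_apply_eq_zero x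
  let c : CokernelCofork q := CokernelCofork.ofπ pn hw
  have hker : ∀ {W : FP A} (k : P n ⟶ W), q ≫ k = 0 → LinearMap.ker f ≤ LinearMap.ker k.hom.hom := fun {W} k hk => by
    rw [hfg.linearMap_ker_eq]
    rintro _ ⟨y, rfl⟩
    exact congrArg (fun t : P m ⟶ W => t.hom.hom y) hk
  have hc : IsColimit c := CokernelCofork.IsColimit.ofπ _ _
    (fun {W} k hk => mk ((LinearMap.ker f).liftQ k.hom.hom (hker k hk) ∘ₗ (f.quotKerEquivOfSurjective hf).symm.toLinearMap))
    (fun {W} k hk => ext' fun x => by
      show (LinearMap.ker f).liftQ k.hom.hom (hker k hk) ((f.quotKerEquivOfSurjective hf).symm (f x)) = k.hom.hom x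
      rw [show (f.quotKerEquivOfSurjective hf).symm (f x) = Submodule.Quotient.mk x from
        (LinearEquiv.symm_apply_eq _).2 rfl]
      rfl)
    (fun {W} k hk t ht => ext' fun y => by
      obtain ⟨x, rfl⟩ := hf y
      show t.hom.hom (f x) = (LinearMap.ker f).liftQ k.hom.hom (hker k hk) ((f.quotKerEquivOfSurjective hf).symm (f x))
      rw [show (f.quotKerEquivOfSurjective hf).symm (f x) = Submodule.Quotient.mk x from
        (LinearEquiv.symm_apply_eq _).2 rfl]
      exact congrArg (fun s : P n ⟶ W => s.hom.hom x) ht)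
  have hFc := CokernelCofork.mapIsColimit c hc F
  let ι : ∀ {k : ℕ}, Fin k → (one hA ⟶ P k) := fun {k} i => mk (LinearMap.single A (fun _ : Fin k => A) i)
  let π : ∀ {k : ℕ}, Fin k → (P k ⟶ one hA) := fun {k} i => mk (LinearMap.proj i)
  have htot : ∀ k, ∑ i, π i ≫ ι (k := k) i = 𝟙 (P k) := fun k => ext' fun x => by
    show (∑ i, π i ≫ ι i : P k ⟶ P k).hom.hom x = x
    have : ∀ s : Finset (Fin k), (∑ i ∈ s, π i ≫ ι i : P k ⟶ P k).hom.hom x = ∑ i ∈ s, Pi.single i (x i) := by
      intro s
      induction s using Finset.induction with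
      | empty => rfl
      | @insert a s ha ih =>
        rw [Finset.sum_insert ha, Finset.sum_insert ha, ← ih]
        rfl
    rw [this]
    exact Finset.univ_sum_single x
  have hιp : ∀ i, ι i ≫ pn = elt hA (f (Pi.single i 1)) := fun i => ext' fun a => by
    show f (Pi.single i (a : A)) = (a : A) • f (Pi.single i 1)
    rw [← map_smul, ← Pi.single_smul, smul_eq_mul, mul_one]
  -- uniqueness
  have huniq : ∀ g₁ g₂ : F.obj M ⟶ Z, (∀ x, F.map (elt hA x) ≫ g₁ = F.map (elt hA x) ≫ g₂) → g₁ = g₂ := by
    intro g₁ g₂ h12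
    apply Cofork.IsColimit.hom_ext hFc
    show F.map pn ≫ g₁ = F.map pn ≫ g₂
    calc F.map pn ≫ g₁ = F.map ((∑ i, π i ≫ ι i) ≫ pn) ≫ g₁ := by rw [htot, Category.id_comp]
      _ = ∑ i, F.map (π i) ≫ (F.map (elt hA (f (Pi.single i 1))) ≫ g₁) := by
        simp [Preadditive.sum_comp, hιp]
      _ = ∑ i, F.map (π i) ≫ (F.map (elt hA (f (Pi.single i 1))) ≫ g₂) := by simp only [h12]
      _ = F.map ((∑ i, π i ≫ ι i) ≫ pn) ≫ g₂ := by simp [Preadditive.sum_comp, hιp]
      _ = F.map pn ≫ g₂ := by rw [htot, Category.id_comp]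
  -- existence
  let hh : M.obj →+ (F.obj (one hA) ⟶ Z) := AddMonoidHom.mk' h hadd
  let g₀ : F.obj (P n) ⟶ Z := ∑ i, F.map (π i) ≫ h (f (Pi.single i 1))
  have hg₀ : ∀ x : Fin n → A, F.map (elt hA (M := P n) x) ≫ g₀ = h (f x) := by
    intro x
    have hx : h (f x) = ∑ i, h (x i • f (Pi.single i 1)) := by
      show hh (f x) = ∑ i, hh (x i • f (Pi.single i 1))
      rw [← map_sum]
      congr 1
      conv_lhs => rw [← Finset.univ_sum_single x]
      rw [map_sum]
      exact Finset.sum_congr rfl fun i _ => by rw [← map_smul, ← Pi.single_smul, smul_eq_mul, mul_one]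
    rw [hx, Preadditive.comp_sum]
    refine Finset.sum_congr rfl fun i _ => ?_
    rw [← Category.assoc, ← F.map_comp, hsmul]
    congr 2
    refine ext' fun a => ?_
    show (a : A) * x i = x i * a
    exact mul_comm _ _
  have hdes : F.map q ≫ g₀ = 0 := by
    calc F.map q ≫ g₀ = F.map ((∑ j, π j ≫ ι j) ≫ q) ≫ g₀ := by rw [htot, Category.id_comp]
      _ = ∑ j, F.map (π j) ≫ (F.map (ι j ≫ q) ≫ g₀) := by simp [Preadditive.sum_comp]
      _ = 0 := Finset.sum_eq_zero fun j _ => by
        have : ι j ≫ q = elt hA (M := P n) (g (Pi.single j 1)) := ext' fun a => by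
          show g (Pi.single j (a : A)) = (a : A) • g (Pi.single j 1)
          rw [← map_smul, ← Pi.single_smul, smul_eq_mul, mul_one]
        rw [this, hg₀, hfg.apply_apply_eq_zero, show h 0 = 0 from hh.map_zero, comp_zero]
  obtain ⟨g', hg'⟩ := CokernelCofork.IsColimit.desc' hFc g₀ hdes
  refine ⟨g', fun x => ?_, fun g₁ h₁ => huniq _ _ fun x => ?_⟩
  · obtain ⟨y, rfl⟩ := hf x
    rw [show elt hA (f y) = elt hA (M := P n) y ≫ pn from (elt_comp hA (M := P n) y pn).symm, F.map_comp,
      Category.assoc]
    erw [hg']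
    exact hg₀ y
  · obtain ⟨y, rfl⟩ := hf x
    rw [h₁, show elt hA (f y) = elt hA (M := P n) y ≫ pn from (elt_comp hA (M := P n) y pn).symm, F.map_comp,
      Category.assoc]
    erw [hg']
    exact (hg₀ y).symm

omit [HasCokernels B] in
theorem main :
    (∀ t t' : F ⟶ F', t.app (one hA) = t'.app (one hA) → t = t') ∧
    ∀ φ : F.obj (one hA) ⟶ F'.obj (one hA),
      (∀ a : A, F.map (mk (LinearMap.lsmul A A a) : one hA ⟶ one hA) ≫ φ = φ ≫ F'.map (mk (LinearMap.lsmul A A a))) →
      ∃ t : F ⟶ F', t.app (one hA) = φ := by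
  haveI := additive F'
  have helt_smul : ∀ {M : FP A} (a : A) (m : M.obj),
      elt hA (a • m) = (mk (LinearMap.lsmul A A a) : one hA ⟶ one hA) ≫ elt hA m := fun {M} a m => ext' fun x => by
    show (x : A) • a • m = (a * x) • m
    rw [smul_smul, mul_comm]
  have helt_add : ∀ {M : FP A} (m m' : M.obj), elt hA (m + m') = elt hA m + elt hA m' := fun {M} m m' =>
    ext' fun x => smul_add (x : A) m m'
  have key : ∀ (φ : F.obj (one hA) ⟶ F'.obj (one hA)),
      (∀ a : A, F.map (mk (LinearMap.lsmul A A a) : one hA ⟶ one hA) ≫ φ = φ ≫ F'.map (mk (LinearMap.lsmul A A a))) →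
      ∀ M : FP A, ∃! g : F.obj M ⟶ F'.obj M, ∀ m, F.map (elt hA m) ≫ g = φ ≫ F'.map (elt hA m) := fun φ hφ M =>
    exists_unique_hom F hA _ (fun m m' => by rw [helt_add, F'.map_add, Preadditive.comp_add])
      fun a m => by rw [helt_smul, F'.map_comp, ← Category.assoc, ← hφ, Category.assoc]
  have hnat : ∀ (t : F ⟶ F') (a : A),
      F.map (mk (LinearMap.lsmul A A a) : one hA ⟶ one hA) ≫ t.app (one hA) =
        t.app (one hA) ≫ F'.map (mk (LinearMap.lsmul A A a)) := fun t a => t.naturality _
  refine ⟨fun t t' h => NatTrans.ext (funext fun M => (key _ (hnat t) M).unique (fun m => t.naturality _)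
    fun m => by rw [t'.naturality, h]), fun φ hφ => ?_⟩
  choose g hg _ using key φ hφ
  refine ⟨{ app := g, naturality := fun M N f => ?_ }, ?_⟩
  · refine (exists_unique_hom F hA (fun m => φ ≫ F'.map (elt hA (f.hom.hom m)))
      (fun m m' => by rw [map_add, helt_add, F'.map_add, Preadditive.comp_add])
      (fun a m => by rw [map_smul, helt_smul, F'.map_comp, ← Category.assoc, ← hφ, Category.assoc])).unique ?_ ?_
    · intro m
      rw [← Category.assoc, ← F.map_comp, elt_comp, hg]
    · intro m
      rw [← Category.assoc, hg, Category.assoc, ← F'.map_comp, elt_comp]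
  · refine (key φ hφ (one hA)).unique (hg _) fun a => ?_
    have : elt hA (M := one hA) a = mk (LinearMap.lsmul A A a) := ext' fun x => mul_comm (x : A) a
    rw [this, hφ]

end FPHomLib
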